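/-
Marggraff's theorem for primitive groups with a small Jordan set.

* `exists_avoid`: in a `k`-transitive group some translate of a set of fewer than half the points contains a given
  point and avoids `k` others (an inclusion-exclusion count).
* `transOn_card`: a primitive group with such a Jordan set of size `m` is `m`-transitive.
* `exists_meet_once`, `commutator_fix`: two translates meet in one point, and commutators supported on three points.
-/
import Cfsg.Agent.S3707

set_option autoImplicit false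

namespace Cfsg.Agent.JordanSets

open scoped Pointwise
open Cfsg.Agent.S3707 (IsJordanSet)

variable {G Ω : Type*} [Group G] [MulAction G Ω]

/-- Fixing fewer than `k` points leaves the group transitive on the others. -/
def TransOn (G Ω : Type*) [Group G] [MulAction G Ω] (k : ℕ) : Prop :=
  ∀ S : Finset Ω, S.card < k → ∀ x ∉ S, ∀ y ∉ S, ∃ g : G, (∀ s ∈ S, g • s = s) ∧ g • x = y

theorem TransOn.mono {j k : ℕ} (h : TransOn G Ω k) (hjk : j ≤ k) : TransOn G Ω j :=
  fun S hS => h S (lt_of_lt_of_le hS hjk)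

/-- A set of at most `k` points goes to any other of the same size. -/
theorem TransOn.exists_map [DecidableEq Ω] {k : ℕ} (h : TransOn G Ω k) :
    ∀ {S S' : Finset Ω}, S.card = S'.card → S.card ≤ k → ∃ g : G, S.image (g • ·) = S' := by
  intro S
  induction S using Finset.induction with
  | empty => exact fun {S'} e _ => ⟨1, by rw [Finset.image_empty, Finset.card_eq_zero.mp e.symm]⟩
  | @insert a S ha ih =>
    intro S' e hk
    rw [Finset.card_insert_of_notMem ha] at e hk
    obtain ⟨b, hb⟩ := Finset.card_pos.mp (show 0 < S'.card by omega)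
    obtain ⟨g, hg⟩ := ih (S' := S'.erase b) (by rw [Finset.card_erase_of_mem hb]; omega) (by omega)
    have hga : g • a ∉ S'.erase b := by
      rw [← hg, Finset.mem_image]
      rintro ⟨x, hx, e'⟩
      exact ha (MulAction.injective g e' ▸ hx)
    obtain ⟨t, ht, htb⟩ := h (S'.erase b) (by rw [Finset.card_erase_of_mem hb]; omega) (g • a) hga b
      (Finset.notMem_erase b S')
    refine ⟨t * g, ?_⟩
    rw [Finset.image_insert, mul_smul, htb]
    have : S.image ((t * g) • ·) = S'.erase b := by
      rw [← hg]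
      refine Finset.image_congr fun x hx => ?_
      show (t * g) • x = g • x
      rw [mul_smul, ht _ (hg ▸ Finset.mem_image_of_mem _ hx)]
    rw [this, Finset.insert_erase hb]

section Count

variable [Fintype G] [Fintype Ω] [DecidableEq Ω]

/-- The elements sending `A` into `Γ` and `B` outside. -/
def patt (G : Type*) {Ω : Type*} [Group G] [MulAction G Ω] [Fintype G] [DecidableEq Ω] (Γ A B : Finset Ω) :
    Finset G :=
  Finset.univ.filter fun g : G => (∀ a ∈ A, g • a ∈ Γ) ∧ ∀ b ∈ B, g • b ∉ Γ

omit [Fintype Ω] in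
theorem mem_patt {Γ A B : Finset Ω} {g : G} :
    g ∈ patt G Γ A B ↔ (∀ a ∈ A, g • a ∈ Γ) ∧ ∀ b ∈ B, g • b ∉ Γ := by simp [patt]

theorem patt_compl (Γ A B : Finset Ω) : patt G Γᶜ B A = patt G Γ A B := by
  ext g
  simp [mem_patt, and_comm]

theorem patt_step {k : ℕ} (h : TransOn G Ω k) {Γ A B : Finset Ω} {x : Ω} (hAB : Disjoint A B)
    (hxA : x ∉ A) (hxB : x ∉ B) (hk : A.card + B.card < k) :
    (patt G Γ (insert x A) B).card * (Fintype.card Ω - (A.card + B.card)) =
      (patt G Γ A B).card * (Γ.card - A.card) := by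
  classical
  let P : Ω → Finset G := fun y => (patt G Γ A B).filter fun g => g • y ∈ Γ
  have hP : ∀ y, P y = patt G Γ (insert y A) B := fun y => by
    ext g
    simp only [P, Finset.mem_filter, mem_patt, Finset.forall_mem_insert]
    tauto
  have hconst : ∀ y ∈ (A ∪ B)ᶜ, (P y).card = (patt G Γ (insert x A) B).card := by
    intro y hy
    rw [Finset.mem_compl] at hy
    obtain ⟨t, ht, htx⟩ := h (A ∪ B) (by rw [Finset.card_union_of_disjoint hAB]; omega) x
      (by simp [hxA, hxB]) y hy
    rw [hP]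
    have ht' : ∀ s ∈ A ∪ B, t⁻¹ • s = s := fun s hs => by rw [inv_smul_eq_iff, ht s hs]
    refine Finset.card_bij' (fun g _ => g * t) (fun g _ => g * t⁻¹) ?_ ?_ ?_ ?_
    · intro g hg
      simp only [mem_patt, Finset.forall_mem_insert, mul_smul, htx] at hg ⊢
      exact ⟨⟨hg.1.1, fun a ha => by rw [ht a (Finset.mem_union_left _ ha)]; exact hg.1.2 a ha⟩,
        fun b hb => by rw [ht b (Finset.mem_union_right _ hb)]; exact hg.2 b hb⟩
    · intro g hg
      have hty : t⁻¹ • y = x := by rw [inv_smul_eq_iff, htx]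
      simp only [mem_patt, Finset.forall_mem_insert, mul_smul, hty] at hg ⊢
      exact ⟨⟨hg.1.1, fun a ha => by rw [ht' a (Finset.mem_union_left _ ha)]; exact hg.1.2 a ha⟩,
        fun b hb => by rw [ht' b (Finset.mem_union_right _ hb)]; exact hg.2 b hb⟩
    · intro g _; simp
    · intro g _; simp
  have hfib : ∀ g ∈ patt G Γ A B, ((A ∪ B)ᶜ.filter fun y => g • y ∈ Γ).card = Γ.card - A.card := by
    intro g hg
    rw [mem_patt] at hg
    have e : ((A ∪ B)ᶜ.filter fun y => g • y ∈ Γ).image (g • ·) = Γ \ A.image (g • ·) := by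
      ext z
      simp only [Finset.mem_image, Finset.mem_filter, Finset.mem_compl, Finset.mem_union, Finset.mem_sdiff]
      constructor
      · rintro ⟨y, ⟨hy, hyΓ⟩, rfl⟩
        exact ⟨hyΓ, fun ⟨a, ha, e⟩ => hy (Or.inl (MulAction.injective g e ▸ ha))⟩
      · rintro ⟨hz, hzA⟩
        refine ⟨g⁻¹ • z, ⟨?_, by rwa [smul_inv_smul]⟩, smul_inv_smul g z⟩
        rintro (h' | h')
        · exact hzA ⟨_, h', smul_inv_smul g z⟩
        · exact hg.2 _ h' (by rwa [smul_inv_smul])
    rw [← Finset.card_image_of_injective _ (MulAction.injective g), e,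
      Finset.card_sdiff_of_subset (by intro z hz; obtain ⟨a, ha, rfl⟩ := Finset.mem_image.mp hz; exact hg.1 a ha),
      Finset.card_image_of_injective _ (MulAction.injective g)]
  calc (patt G Γ (insert x A) B).card * (Fintype.card Ω - (A.card + B.card))
      = ∑ y ∈ (A ∪ B)ᶜ, (P y).card := by
        rw [Finset.sum_congr rfl hconst, Finset.sum_const, smul_eq_mul, Finset.card_compl,
          Finset.card_union_of_disjoint hAB, Nat.mul_comm]
    _ = ∑ g ∈ patt G Γ A B, ((A ∪ B)ᶜ.filter fun y => g • y ∈ Γ).card := by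
        simp only [P, Finset.card_filter]
        exact Finset.sum_comm
    _ = (patt G Γ A B).card * (Γ.card - A.card) := by
        rw [Finset.sum_congr rfl hfib, Finset.sum_const, smul_eq_mul]

theorem patt_card {k : ℕ} (h : TransOn G Ω k) (Γ : Finset Ω) :
    ∀ {A B : Finset Ω}, Disjoint A B → A.card + B.card ≤ k →
      (patt G Γ A B).card * (Fintype.card Ω).descFactorial (A.card + B.card) =
        Fintype.card G * Γ.card.descFactorial A.card * (Fintype.card Ω - Γ.card).descFactorial B.card := by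
  intro A
  induction A using Finset.induction with
  | empty =>
    intro B
    induction B using Finset.induction with
    | empty => intro _ _; simp [patt]
    | @insert x B hx ih =>
      intro _ hk
      rw [Finset.card_empty, Finset.card_insert_of_notMem hx, Nat.zero_add] at hk ⊢
      have e := patt_step h (Γ := Γᶜ) (A := B) (B := ∅) (Finset.disjoint_empty_right _) hx (Finset.notMem_empty _)
        (by simp only [Finset.card_empty]; omega)
      rw [patt_compl, patt_compl, Finset.card_empty, Nat.add_zero, Finset.card_compl] at e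
      have i := ih (Finset.disjoint_empty_left _) (by simp only [Finset.card_empty]; omega)
      simp only [Finset.card_empty, Nat.zero_add, Nat.descFactorial_zero, Nat.mul_one] at i ⊢
      rw [Nat.descFactorial_succ, Nat.descFactorial_succ, ← Nat.mul_assoc, e, Nat.mul_right_comm, i]
      ring
  | @insert x A hx ih =>
    intro B hd hk
    rw [Finset.disjoint_insert_left] at hd
    rw [Finset.card_insert_of_notMem hx] at hk ⊢
    have e := patt_step h (Γ := Γ) hd.2 hx hd.1 (by omega)
    have i := ih hd.2 (by omega)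
    rw [show A.card + 1 + B.card = A.card + B.card + 1 by omega, Nat.descFactorial_succ, Nat.descFactorial_succ,
      ← Nat.mul_assoc, e, Nat.mul_right_comm, i]
    ring

omit [Fintype Ω] in
theorem patt_split (Γ : Finset Ω) (A B : Finset Ω) (t : Ω) :
    (patt G Γ (insert t A) B).card + (patt G Γ A (insert t B)).card = (patt G Γ A B).card := by
  rw [← Finset.card_filter_add_card_filter_not (s := patt G Γ A B) (fun g : G => g • t ∈ Γ)]
  congr 1 <;> congr 1 <;> ext g <;> simp only [Finset.mem_filter, mem_patt, Finset.forall_mem_insert] <;> tauto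

theorem descFactorial_lt_descFactorial {p q : ℕ} (hpq : p < q) : ∀ {j : ℕ}, 0 < j → j ≤ q →
    p.descFactorial j < q.descFactorial j := by
  intro j hj hjq
  obtain ⟨i, rfl⟩ : ∃ i, j = i + 1 := ⟨j - 1, by omega⟩
  obtain ⟨r, rfl⟩ : ∃ r, q = r + 1 := ⟨q - 1, by omega⟩
  rw [Nat.succ_descFactorial_succ]
  rcases p with - | s
  · rw [Nat.zero_descFactorial_succ]
    exact Nat.mul_pos (by omega) (Nat.pos_of_ne_zero fun h0 => by
      have := Nat.descFactorial_eq_zero_iff_lt.mp h0; omega)
  · rw [Nat.succ_descFactorial_succ]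
    calc (s + 1) * s.descFactorial i ≤ (s + 1) * r.descFactorial i :=
          Nat.mul_le_mul le_rfl (Nat.descFactorial_le i (by omega))
      _ < (r + 1) * r.descFactorial i := Nat.mul_lt_mul_of_pos_right (by omega)
          (Nat.pos_of_ne_zero fun h0 => by have := Nat.descFactorial_eq_zero_iff_lt.mp h0; omega)

/-- Some translate of a set of fewer than half the points contains `f` and avoids `k` further points. -/
theorem exists_avoid {k : ℕ} (hk : 2 ≤ k) (h : TransOn G Ω k) {Γ T : Finset Ω} {f : Ω}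
    (hm : 0 < Γ.card) (hhalf : 2 * Γ.card < Fintype.card Ω) (hroom : k + Γ.card ≤ Fintype.card Ω)
    (hfT : f ∉ T) (hT : T.card = k) : ∃ g : G, g • f ∈ Γ ∧ ∀ t ∈ T, g • t ∉ Γ := by
  classical
  by_contra hcon
  have h0 : patt G Γ {f} T = ∅ := Finset.eq_empty_of_forall_notMem fun g hg => by
    rw [mem_patt] at hg
    exact hcon ⟨g, hg.1 f (Finset.mem_singleton_self f), hg.2⟩
  let c : ℕ → ℤ := fun j => (Γ.card.descFactorial (j + 1) : ℤ) * ((Fintype.card Ω - Γ.card).descFactorial (k - j) : ℤ)
  have key : ∀ J : Finset Ω, J ⊆ T → ((patt G Γ (insert f J) (T \ J)).card : ℤ) *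
      ((Fintype.card Ω).descFactorial (k + 1) : ℤ) = (Fintype.card G : ℤ) * (c J.card - (-1) ^ J.card * c 0) := by
    intro J
    induction J using Finset.induction with
    | empty =>
      intro _
      rw [Finset.sdiff_empty, insert_empty_eq, h0]
      simp
    | @insert t J ht ih =>
      intro hJ
      rw [Finset.insert_subset_iff] at hJ
      have i := ih hJ.2
      have hft : f ≠ t := fun e => hfT (e ▸ hJ.1)
      have hs : T \ J = insert t (T \ insert t J) := by
        ext z
        by_cases hz : z = t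
        · simp [hz, hJ.1, ht]
        · simp [hz]
      have e1 := patt_split (G := G) Γ (insert f J) (T \ insert t J) t
      rw [← hs, Finset.insert_comm] at e1
      have hfJ : f ∉ J := fun h' => hfT (hJ.2 h')
      have hJk : J.card + 1 ≤ k := by
        rw [← hT, ← Finset.card_insert_of_notMem ht]
        exact Finset.card_le_card (Finset.insert_subset hJ.1 hJ.2)
      have hcardB : (T \ insert t J).card = k - (J.card + 1) := by
        rw [Finset.card_sdiff_of_subset (Finset.insert_subset hJ.1 hJ.2), hT, Finset.card_insert_of_notMem ht]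
      have e2 := patt_card h Γ (A := insert f J) (B := T \ insert t J)
        (by
          rw [Finset.disjoint_left]
          intro z hz hz'
          rw [Finset.mem_sdiff] at hz'
          rcases Finset.mem_insert.mp hz with rfl | hz
          · exact hfT hz'.1
          · exact hz'.2 (Finset.mem_insert_of_mem hz))
        (by rw [Finset.card_insert_of_notMem hfJ, hcardB]; omega)
      rw [Finset.card_insert_of_notMem hfJ, hcardB, show J.card + 1 + (k - (J.card + 1)) = k by omega] at e2
      rw [Finset.card_insert_of_notMem ht]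
      have e2' := congrArg (Nat.cast : ℕ → ℤ) e2
      have e1' := congrArg (Nat.cast : ℕ → ℤ) e1
      push_cast at e1' e2'
      have hc : c (J.card + 1) + c J.card = (Γ.card.descFactorial (J.card + 1) : ℤ) *
          ((Fintype.card Ω - Γ.card).descFactorial (k - (J.card + 1)) : ℤ) * ((Fintype.card Ω - k : ℕ) : ℤ) := by
        simp only [c]
        rw [show k - J.card = k - (J.card + 1) + 1 by omega, Nat.descFactorial_succ _ (k - (J.card + 1)),
          Nat.descFactorial_succ _ (J.card + 1)]
        push_cast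
        rcases Nat.lt_or_ge Γ.card (J.card + 1) with hlt | hge
        · rw [Nat.descFactorial_eq_zero_iff_lt.mpr hlt]
          simp
        · rw [Nat.cast_sub hge, Nat.cast_sub (show k - (J.card + 1) ≤ Fintype.card Ω - Γ.card by omega),
            Nat.cast_sub (show Γ.card ≤ Fintype.card Ω by omega), Nat.cast_sub (show k ≤ Fintype.card Ω by omega),
            Nat.cast_sub hJk]
          push_cast
          ring
      rw [Nat.descFactorial_succ _ k] at i ⊢
      push_cast at i ⊢
      linear_combination ((Fintype.card Ω - k : ℕ) : ℤ) * ((Fintype.card Ω).descFactorial k : ℤ) * e1' +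
        ((Fintype.card Ω - k : ℕ) : ℤ) * e2' - i - (Fintype.card G : ℤ) * hc
  obtain ⟨j, hj2, hjk, hjeven, hjr⟩ : ∃ j, 0 < j ∧ j ≤ k ∧ Even j ∧ k ≤ j + 1 := by
    rcases Nat.even_or_odd k with he | ho
    · exact ⟨k, by omega, le_rfl, he, by omega⟩
    · obtain ⟨i, rfl⟩ := ho
      exact ⟨2 * i, by omega, by omega, even_two_mul i, by omega⟩
  obtain ⟨J, hJT, hJ⟩ := Finset.exists_subset_card_eq (hjk.trans hT.ge)
  have hfin := key J hJT
  rw [hJ, hjeven.neg_one_pow, one_mul] at hfin
  have hle : 0 ≤ c j - c 0 := by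
    have hG : (0 : ℤ) < Fintype.card G := by exact_mod_cast Fintype.card_pos
    by_contra hneg
    have hlt : (Fintype.card G : ℤ) * (c j - c 0) < 0 := mul_neg_of_pos_of_neg hG (not_le.mp hneg)
    rw [← hfin] at hlt
    exact absurd hlt (not_lt.mpr (by positivity))
  have hlt : Γ.card.descFactorial (j + 1) * (Fintype.card Ω - Γ.card).descFactorial (k - j) <
      Γ.card.descFactorial (0 + 1) * (Fintype.card Ω - Γ.card).descFactorial (k - 0) := by
    obtain ⟨s, hs⟩ : ∃ s, Γ.card = s + 1 := ⟨Γ.card - 1, by omega⟩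
    rw [← Nat.descFactorial_mul_descFactorial (n := Fintype.card Ω - Γ.card) (show k - j ≤ k - 0 by omega),
      show k - 0 - (k - j) = j by omega, hs, Nat.succ_descFactorial_succ, Nat.zero_add, Nat.descFactorial_one]
    have hlt' := descFactorial_lt_descFactorial (p := s) (q := Fintype.card Ω - (s + 1) - (k - j))
      (by omega) (j := j) hj2 (by omega)
    have hpos : 0 < (Fintype.card Ω - (s + 1)).descFactorial (k - j) := Nat.pos_of_ne_zero fun h' => by
      have := Nat.descFactorial_eq_zero_iff_lt.mp h'; omega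
    calc (s + 1) * s.descFactorial j * (Fintype.card Ω - (s + 1)).descFactorial (k - j)
        < (s + 1) * (Fintype.card Ω - (s + 1) - (k - j)).descFactorial j *
            (Fintype.card Ω - (s + 1)).descFactorial (k - j) :=
          Nat.mul_lt_mul_of_pos_right (Nat.mul_lt_mul_of_pos_left hlt' (Nat.succ_pos s)) hpos
      _ = (s + 1) * ((Fintype.card Ω - (s + 1) - (k - j)).descFactorial j *
            (Fintype.card Ω - (s + 1)).descFactorial (k - j)) := Nat.mul_assoc _ _ _
  have hlt' : c j < c 0 := by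
    simp only [c]
    exact_mod_cast hlt
  omega

end Count

section Finite

variable [Finite G] [Finite Ω]

theorem transOn_succ {k : ℕ} (hk : 2 ≤ k) (h : TransOn G Ω k) {Γ : Set Ω} (hJ : IsJordanSet G Γ)
    (h1 : 1 < Γ.ncard) (h2 : 2 * Γ.ncard < Nat.card Ω) (hroom : k + Γ.ncard ≤ Nat.card Ω) :
    TransOn G Ω (k + 1) := by
  classical
  letI : Fintype G := Fintype.ofFinite G
  letI : Fintype Ω := Fintype.ofFinite Ω
  obtain ⟨Δ, ⟨hΔJ, hΔ1, hΔ2⟩, hmax⟩ := Set.exists_max_image
    {Δ : Set Ω | IsJordanSet G Δ ∧ Γ.ncard ≤ Δ.ncard ∧ Δ.ncard + k ≤ Nat.card Ω}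
    Set.ncard (Set.toFinite _) ⟨Γ, hJ, le_rfl, by omega⟩
  have hcompl := Set.ncard_add_ncard_compl Δ
  have hfull : Δᶜ.ncard = k := by
    by_contra hne
    have hD : k < Δᶜ.ncard := by omega
    -- a translate meeting both sides leaves fewer than `k` points of the complement outside
    have hstep : ∀ (g : G) (x z : Ω), x ∈ g • Γ → x ∈ Δ → z ∈ g • Γ → z ∉ Δ → (Δᶜ \ g • Γ).ncard < k := by
      intro g x z hx hxΔ hz hzΔ
      by_contra hcon
      have hbig : Δ.ncard < (Δ ∪ g • Γ).ncard :=
        Set.ncard_lt_ncard ⟨Set.subset_union_left, fun hsub => hzΔ (hsub (Or.inr hz))⟩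
      have e := Set.ncard_add_ncard_compl (Δ ∪ g • Γ)
      rw [Set.compl_union, ← Set.sdiff_eq] at e
      have := hmax _ ⟨hΔJ.union (hJ.smul g) ⟨x, hxΔ, hx⟩, by omega, by omega⟩
      omega
    obtain ⟨x₀, hx₀⟩ : Δ.Nonempty := Set.nonempty_of_ncard_ne_zero (by omega)
    obtain ⟨W, hW, hWc⟩ := Finset.exists_subset_card_eq (s := (Δᶜ).toFinset) (n := k + 1)
      (by rw [← Set.ncard_eq_toFinset_card']; omega)
    obtain ⟨f, hf⟩ := Finset.card_pos.mp (show 0 < W.card by omega)
    obtain ⟨g, hgf, hgT⟩ := exists_avoid hk h (Γ := Γ.toFinset) (T := W.erase f) (f := f)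
      (by rw [← Set.ncard_eq_toFinset_card']; omega)
      (by rw [← Set.ncard_eq_toFinset_card', ← Nat.card_eq_fintype_card]; exact h2)
      (by rw [← Set.ncard_eq_toFinset_card', ← Nat.card_eq_fintype_card]; exact hroom)
      (Finset.notMem_erase f W) (by rw [Finset.card_erase_of_mem hf]; omega)
    simp only [Set.mem_toFinset] at hgf hgT
    have hWΔ : ∀ w ∈ W, w ∈ Δᶜ := fun w hw => Set.mem_toFinset.mp (hW hw)
    have houtside : ((W.erase f : Finset Ω) : Set Ω) ⊆ Δᶜ \ g⁻¹ • Γ := fun w hw =>
      ⟨hWΔ w (Finset.mem_of_mem_erase hw), fun h' => hgT w hw (Set.mem_inv_smul_set_iff.mp h')⟩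
    have hkcard : k ≤ (Δᶜ \ g⁻¹ • Γ).ncard := by
      have := Set.ncard_le_ncard houtside
      rw [Set.ncard_coe_finset, Finset.card_erase_of_mem hf] at this
      omega
    have hfin : f ∈ g⁻¹ • Γ := Set.mem_inv_smul_set_iff.mpr hgf
    have hsub : g⁻¹ • Γ ⊆ Δᶜ := fun x hx hxΔ => by
      have := hstep _ x f hx hxΔ hfin (hWΔ f hf)
      omega
    have hbigc : Γ.ncard + k ≤ Δᶜ.ncard := by
      have := Set.ncard_sdiff hsub
      rw [Set.ncard_smul_set] at this
      have := Set.ncard_le_ncard hsub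
      rw [Set.ncard_smul_set] at this
      omega
    obtain ⟨u, hu, v, hv, huv⟩ := (Set.one_lt_ncard Γ.toFinite).mp h1
    obtain ⟨t, ht⟩ := (h.mono hk).exists_map (S := {u, v}) (S' := {x₀, f})
      (by rw [Finset.card_pair huv, Finset.card_pair (fun e : x₀ = f => hWΔ f hf (e ▸ hx₀))])
      (by rw [Finset.card_pair huv])
    have hmem : ∀ z ∈ ({x₀, f} : Finset Ω), z ∈ t • Γ := fun z hz => by
      rw [← ht, Finset.mem_image] at hz
      obtain ⟨y, hy, rfl⟩ := hz
      rcases Finset.mem_insert.mp hy with rfl | hy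
      · exact Set.smul_mem_smul_set hu
      · exact Set.smul_mem_smul_set (Finset.mem_singleton.mp hy ▸ hv)
    have hlt := hstep t x₀ f (hmem _ (by simp)) hx₀ (hmem _ (by simp)) (hWΔ f hf)
    have hd := Set.le_ncard_sdiff (t • Γ) Δᶜ
    rw [Set.ncard_smul_set] at hd
    have hin : (Δᶜ ∩ t • Γ).ncard + 1 ≤ Γ.ncard := by
      have hss : Δᶜ ∩ t • Γ ⊂ t • Γ :=
        ⟨Set.inter_subset_right, fun hsub' => (hsub' (hmem x₀ (by simp))).1 hx₀⟩
      have := Set.ncard_lt_ncard hss
      rw [Set.ncard_smul_set] at this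
      omega
    have := Set.ncard_inter_add_ncard_sdiff_eq_ncard Δᶜ (t • Γ)
    omega
  intro S hS x hx y hy
  rcases Nat.lt_or_ge S.card k with hlt | hge
  · exact h S hlt x hx y hy
  obtain ⟨t, ht⟩ := h.exists_map (S := (Δᶜ).toFinset) (S' := S)
    (by rw [← Set.ncard_eq_toFinset_card']; omega) (by rw [← Set.ncard_eq_toFinset_card']; omega)
  have hout : ∀ w, w ∉ t • Δ ↔ w ∈ S := fun w => by
    rw [← ht, Finset.mem_image, Set.mem_smul_set_iff_inv_smul_mem]
    refine ⟨fun hw => ⟨t⁻¹ • w, Set.mem_toFinset.mpr hw, smul_inv_smul t w⟩, ?_⟩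
    rintro ⟨z, hz, rfl⟩
    rw [inv_smul_smul]
    exact Set.mem_toFinset.mp hz
  obtain ⟨g, hg, hgxy⟩ := hΔJ.smul t x (by by_contra h'; exact hx ((hout x).mp h'))
    y (by by_contra h'; exact hy ((hout y).mp h'))
  exact ⟨g, fun s hs => hg s ((hout s).mpr hs), hgxy⟩

/-- A primitive group with a Jordan set of `m` points, `1 < m` and `2 * m` below the degree, is `m`-transitive. -/
theorem transOn_card (hprim : MulAction.IsPreprimitive G Ω) {Γ : Set Ω} (hJ : IsJordanSet G Γ)
    (h1 : 1 < Γ.ncard) (h2 : 2 * Γ.ncard < Nat.card Ω) : TransOn G Ω Γ.ncard := by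
  classical
  have h2t : MulAction.IsMultiplyPretransitive G Ω 2 := by
    refine hprim.is_two_pretransitive (s := Γᶜ) (n := Nat.card Ω - Γ.ncard - 1) ?_ (by omega) ?_
    · have := Set.ncard_add_ncard_compl Γ
      omega
    · refine ⟨fun x y => ?_⟩
      obtain ⟨g, hg, hgxy⟩ := hJ x (not_not.mp x.2) y (not_not.mp y.2)
      exact ⟨⟨g, (mem_fixingSubgroup_iff G).mpr fun z hz => hg z hz⟩, Subtype.ext hgxy⟩
  have h2' : ∀ {a b c d : Ω}, a ≠ b → c ≠ d → ∃ g : G, g • a = c ∧ g • b = d :=
    MulAction.is_two_pretransitive_iff.mp h2t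
  have base : TransOn G Ω 2 := by
    intro S hS x hx y hy
    rcases Nat.lt_or_ge S.card 1 with h0 | h0
    · obtain ⟨g, hg⟩ := hprim.toIsPretransitive.exists_smul_eq x y
      exact ⟨g, fun s hs => by simp [Finset.card_eq_zero.mp (show S.card = 0 by omega)] at hs, hg⟩
    · obtain ⟨a, rfl⟩ := Finset.card_eq_one.mp (show S.card = 1 by omega)
      obtain ⟨g, hga, hgx⟩ := h2' (a := a) (b := x) (c := a) (d := y)
        (fun e => hx (by simp [e])) (fun e => hy (by simp [e]))
      exact ⟨g, fun s hs => by rw [Finset.mem_singleton.mp hs, hga], hgx⟩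
  have main : ∀ k, k ≤ Γ.ncard → TransOn G Ω k := by
    intro k
    induction k with
    | zero => exact fun _ => base.mono (by omega)
    | succ k ih =>
      intro hk
      rcases Nat.lt_or_ge k 2 with hk2 | hk2
      · exact base.mono (by omega)
      · exact transOn_succ hk2 (ih (by omega)) hJ h1 h2 (by omega)
  exact main _ le_rfl

/-- Two translates meet in exactly one point. -/
theorem exists_meet_once {Γ : Set Ω} (h : TransOn G Ω Γ.ncard) (h1 : 1 < Γ.ncard)
    (h2 : 2 * Γ.ncard < Nat.card Ω) {u : Ω} (hu : u ∈ Γ) : ∃ g : G, Γ ∩ g • Γ = {u} := by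
  classical
  letI : Fintype Ω := Fintype.ofFinite Ω
  obtain ⟨T, hT, hTc⟩ := Finset.exists_subset_card_eq (s := Γ.toFinsetᶜ) (n := Γ.ncard - 1)
    (by rw [Finset.card_compl, ← Set.ncard_eq_toFinset_card', ← Nat.card_eq_fintype_card]; omega)
  have huT : u ∉ T := fun h' => Finset.mem_compl.mp (hT h') (Set.mem_toFinset.mpr hu)
  obtain ⟨g, hg⟩ := h.exists_map (S := Γ.toFinset) (S' := insert u T)
    (by rw [Finset.card_insert_of_notMem huT, ← Set.ncard_eq_toFinset_card']; omega)
    (by rw [← Set.ncard_eq_toFinset_card'])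
  refine ⟨g, ?_⟩
  have hgΓ : g • Γ = insert u (T : Set Ω) := by
    rw [← Finset.coe_insert, ← hg, Finset.coe_image, Set.coe_toFinset]
    rfl
  rw [hgΓ]
  ext z
  simp only [Set.mem_inter_iff, Set.mem_insert_iff, Finset.mem_coe, Set.mem_singleton_iff]
  refine ⟨fun ⟨hz, h'⟩ => h'.resolve_right fun hzT => Finset.mem_compl.mp (hT hzT) (Set.mem_toFinset.mpr hz), ?_⟩
  rintro rfl
  exact ⟨hu, Or.inl rfl⟩

end Finite

theorem inv_mem_of_fix {A : Set Ω} {a : G} (ha : ∀ z ∉ A, a • z = z) {x : Ω} (hx : x ∈ A) : a⁻¹ • x ∈ A := by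
  by_contra h
  have e := ha _ h
  rw [smul_inv_smul] at e
  exact h (e ▸ hx)

theorem inv_fix_of_fix {A : Set Ω} {a : G} (ha : ∀ z ∉ A, a • z = z) {x : Ω} (hx : x ∉ A) : a⁻¹ • x = x := by
  rw [inv_smul_eq_iff, ha x hx]

/-- The commutator of elements supported on `A` and `B` only moves points of `I ∪ a I ∪ b I`, `I = A ∩ B`. -/
theorem commutator_fix {A B : Set Ω} {a b : G} (ha : ∀ z ∉ A, a • z = z) (hb : ∀ z ∉ B, b • z = z) {x : Ω}
    (h1 : x ∉ A ∩ B) (h2 : a⁻¹ • x ∉ A ∩ B) (h3 : b⁻¹ • x ∉ A ∩ B) : (a * b * a⁻¹ * b⁻¹) • x = x := by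
  simp only [mul_smul]
  by_cases hxB : x ∈ B
  · have hxA : x ∉ A := fun h => h1 ⟨h, hxB⟩
    have hy : b⁻¹ • x ∉ A := fun h => h3 ⟨h, inv_mem_of_fix hb hxB⟩
    rw [inv_fix_of_fix ha hy, smul_inv_smul, ha x hxA]
  · rw [inv_fix_of_fix hb hxB]
    by_cases hxA : x ∈ A
    · rw [hb _ fun h => h2 ⟨inv_mem_of_fix ha hxA, h⟩, smul_inv_smul]
    · rw [inv_fix_of_fix ha hxA, hb x hxB, ha x hxA]

/-- The commutator permutes three points cyclically. -/
theorem commutator_cycle {A B : Set Ω} {a b : G} (ha : ∀ z ∉ A, a • z = z) (hb : ∀ z ∉ B, b • z = z) {u : Ω}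
    (hI : A ∩ B = {u}) (hau : a • u ≠ u) (hbu : b • u ≠ u) :
    (a * b * a⁻¹ * b⁻¹) • u = a • u ∧ (a * b * a⁻¹ * b⁻¹) • (a • u) = b • u ∧
      (a * b * a⁻¹ * b⁻¹) • (b • u) = u := by
  have hu : u ∈ A ∩ B := hI ▸ rfl
  have huniq : ∀ z, z ∈ A → z ∈ B → z = u := fun z hA hB => by
    have : z ∈ ({u} : Set Ω) := hI ▸ ⟨hA, hB⟩
    exact this
  have hpA : a • u ∈ A := by
    by_contra h
    exact hau (MulAction.injective a (ha _ h))
  have hqB : b • u ∈ B := by
    by_contra h
    exact hbu (MulAction.injective b (hb _ h))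
  simp only [mul_smul]
  refine ⟨?_, ?_, ?_⟩
  · have : b⁻¹ • u ∉ A := fun h => by
      have e := huniq _ h (inv_mem_of_fix hb hu.2)
      rw [inv_smul_eq_iff] at e
      exact hbu e.symm
    rw [inv_fix_of_fix ha this, smul_inv_smul]
  · have hpB : a • u ∉ B := fun h => hau (huniq _ hpA h)
    have hqA : b • u ∉ A := fun h => hbu (huniq _ h hqB)
    rw [inv_fix_of_fix hb hpB, inv_smul_smul, ha _ hqA]
  · have : a⁻¹ • u ∉ B := fun h => by
      have e := huniq _ (inv_mem_of_fix ha hu.1) h
      rw [inv_smul_eq_iff] at e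
      exact hau e.symm
    rw [inv_smul_smul, hb _ this, smul_inv_smul]

end Cfsg.Agent.JordanSets
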