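/-
Jordan sets in quasiprimitive groups.

* `eq_of_block`: a block meeting both `Γ` and its complement contains the Jordan set `Γ`.
* `not_subset_block`: in a quasiprimitive group no proper block contains a Jordan set.
* `isPreprimitive_of_primitive_jordan`: a primitive Jordan set forces primitivity.
-/
import Cfsg.Agent.EqLemmas

set_option autoImplicit false

namespace Cfsg.Agent.JordanSets

open scoped Pointwise

variable {G Ω : Type*} [Group G] [MulAction G Ω]

/-- Membership criterion: the fixer of `Γᶜ` moves any point of `Γ` to any other. -/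
theorem exists_smul_eq_of_mem {Γ : Set Ω}
    (hJ : MulAction.IsPretransitive ↥(fixingSubgroup G Γᶜ) ↥(SubMulAction.ofFixingSubgroup G Γᶜ))
    {x y : Ω} (hx : x ∈ Γ) (hy : y ∈ Γ) :
    ∃ k ∈ fixingSubgroup G Γᶜ, k • x = y := by
  obtain ⟨k, hk⟩ := hJ.exists_smul_eq (⟨x, fun h => h hx⟩ : ↥(SubMulAction.ofFixingSubgroup G Γᶜ))
    ⟨y, fun h => h hy⟩
  exact ⟨k.1, k.2, congrArg Subtype.val hk⟩

/-- A block meeting both a Jordan set and its complement contains the Jordan set. -/
theorem subset_block {Γ B : Set Ω} (hB : MulAction.IsBlock G B)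
    (hJ : MulAction.IsPretransitive ↥(fixingSubgroup G Γᶜ) ↥(SubMulAction.ofFixingSubgroup G Γᶜ))
    {a b : Ω} (haB : a ∈ B) (ha : a ∈ Γ) (hbB : b ∈ B) (hb : b ∉ Γ) : Γ ⊆ B := by
  intro y hy
  obtain ⟨k, hk, hky⟩ := exists_smul_eq_of_mem hJ ha hy
  have hkb : k • b = b := (mem_fixingSubgroup_iff G).1 hk b hb
  have heq : k • B = B := (hB.smul_eq_or_disjoint k).resolve_right (fun h => by
    exact Set.disjoint_left.1 h ⟨b, hbB, hkb⟩ hbB)
  rw [← heq, ← hky]
  exact Set.smul_mem_smul_set haB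

/-- The fixer of the complement of `Γ ⊆ B` fixes every translate of the block `B`. -/
theorem fixing_le_normalCore {Γ B : Set Ω} (hB : MulAction.IsBlock G B) (hΓB : Γ ⊆ B) :
    fixingSubgroup G Γᶜ ≤ (MulAction.stabilizer G B).normalCore := by
  intro k hk g
  change (g * k * g⁻¹) • B = B
  have key : k • (g⁻¹ • B) = g⁻¹ • B := by
    by_cases h : g⁻¹ • B = B
    · rw [h]
      apply Set.Subset.antisymm
      · rintro _ ⟨x, hx, rfl⟩
        by_cases hxΓ : x ∈ Γ
        · by_contra hn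
          have h2 : k • x ∉ Γ := fun h' => hn (hΓB h')
          have h3 := (mem_fixingSubgroup_iff G).1 hk _ h2
          exact hn (show k • x ∈ B by rw [MulAction.injective k h3]; exact hx)
        · change k • x ∈ B
          rw [(mem_fixingSubgroup_iff G).1 hk x hxΓ]
          exact hx
      · intro x hx
        refine ⟨k⁻¹ • x, ?_, smul_inv_smul k x⟩
        by_cases hxΓ : k⁻¹ • x ∈ Γ
        · exact hΓB hxΓ
        · have h3 := (mem_fixingSubgroup_iff G).1 hk _ hxΓ
          rw [smul_inv_smul] at h3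
          exact h3 ▸ hx
    · have hd : Disjoint (g⁻¹ • B) B := (hB.smul_eq_or_disjoint g⁻¹).resolve_left h
      have hfix : ∀ x ∈ g⁻¹ • B, k • x = x := fun x hx =>
        (mem_fixingSubgroup_iff G).1 hk x fun h' => Set.disjoint_left.1 hd hx (hΓB h')
      ext x
      constructor
      · rintro ⟨y, hy, rfl⟩
        change k • y ∈ _
        rwa [hfix y hy]
      · intro hx
        exact ⟨x, hx, hfix x hx⟩
  rw [mul_smul, mul_smul, key, smul_inv_smul]

/-- In a quasiprimitive group, a proper block contains no Jordan set with two points. -/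
theorem not_subset_block (hqp : ∀ N : Subgroup G, N.Normal → N ≠ ⊥ → MulAction.IsPretransitive ↥N Ω)
    {Γ B : Set Ω} (hΓ1 : 1 < Γ.ncard)
    (hJ : MulAction.IsPretransitive ↥(fixingSubgroup G Γᶜ) ↥(SubMulAction.ofFixingSubgroup G Γᶜ))
    (hB : MulAction.IsBlock G B) (hne : B ≠ Set.univ) : ¬ Γ ⊆ B := by
  intro hΓB
  obtain ⟨x, y, hx, hy, hxy⟩ := (Set.one_lt_ncard (Set.finite_of_ncard_pos (by omega))).1 hΓ1 |>
    fun ⟨x, hx, y, hy, h⟩ => (⟨x, y, hx, hy, h⟩ : ∃ x y, x ∈ Γ ∧ y ∈ Γ ∧ x ≠ y)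
  obtain ⟨k, hk, hkx⟩ := exists_smul_eq_of_mem hJ hx hy
  have hN : (MulAction.stabilizer G B).normalCore ≠ ⊥ := by
    intro h
    have h1 := fixing_le_normalCore hB hΓB hk
    rw [h, Subgroup.mem_bot] at h1
    rw [h1, one_smul] at hkx
    exact hxy hkx
  obtain ⟨z, hz⟩ := (Set.ne_univ_iff_exists_notMem B).1 hne
  obtain ⟨n, hn⟩ := (hqp _ inferInstance hN).exists_smul_eq x z
  have h2 : (n : G) • B = B := Subgroup.normalCore_le _ n.2
  have h3 : (n : G) • x ∈ (n : G) • B := Set.smul_mem_smul_set (hΓB hx)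
  rw [h2] at h3
  exact hz (hn ▸ h3)

/-- A quasiprimitive group with a Jordan set of at least two points is transitive. -/
theorem isPretransitive_of_jordan
    (hqp : ∀ N : Subgroup G, N.Normal → N ≠ ⊥ → MulAction.IsPretransitive ↥N Ω)
    {Γ : Set Ω} (hΓ1 : 1 < Γ.ncard)
    (hJ : MulAction.IsPretransitive ↥(fixingSubgroup G Γᶜ) ↥(SubMulAction.ofFixingSubgroup G Γᶜ)) :
    MulAction.IsPretransitive G Ω := by
  obtain ⟨x, hx, y, hy, hxy⟩ := (Set.one_lt_ncard (Set.finite_of_ncard_pos (by omega))).1 hΓ1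
  obtain ⟨k, _, hkx⟩ := exists_smul_eq_of_mem hJ hx hy
  have ht : (⊤ : Subgroup G) ≠ ⊥ := by
    intro h
    have h1 : k ∈ (⊤ : Subgroup G) := Subgroup.mem_top k
    rw [h, Subgroup.mem_bot] at h1
    rw [h1, one_smul] at hkx
    exact hxy hkx
  refine ⟨fun a b => ?_⟩
  obtain ⟨g, hg⟩ := (hqp ⊤ inferInstance ht).exists_smul_eq a b
  exact ⟨g.1, hg⟩

/-- A quasiprimitive group with a primitive Jordan set is primitive. -/
theorem isPreprimitive_of_primitive_jordan
    (hqp : ∀ N : Subgroup G, N.Normal → N ≠ ⊥ → MulAction.IsPretransitive ↥N Ω)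
    {Γ : Set Ω} (hΓ1 : 1 < Γ.ncard)
    (hJp : MulAction.IsPreprimitive ↥(fixingSubgroup G Γᶜ) ↥(SubMulAction.ofFixingSubgroup G Γᶜ)) :
    MulAction.IsPreprimitive G Ω := by
  have hJ := hJp.toIsPretransitive
  have hGt := isPretransitive_of_jordan hqp hΓ1 hJ
  obtain ⟨a, ha, a', ha', haa'⟩ := (Set.one_lt_ncard (Set.finite_of_ncard_pos (by omega))).1 hΓ1
  refine MulAction.IsPreprimitive.of_isTrivialBlock_base a fun {B} haB hB => ?_
  by_contra hnt
  rw [MulAction.IsTrivialBlock, not_or] at hnt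
  have hBne : B ≠ Set.univ := hnt.2
  by_cases hsub : B ⊆ Γ
  · have hb : MulAction.IsBlock (↥(fixingSubgroup G Γᶜ))
        (Subtype.val ⁻¹' B : Set ↥(SubMulAction.ofFixingSubgroup G Γᶜ)) := by
      rw [MulAction.isBlock_iff_smul_eq_or_disjoint]
      intro k
      rcases hB.smul_eq_or_disjoint k.1 with h | h
      · left
        ext x
        constructor
        · rintro ⟨y, hy, rfl⟩
          change k.1 • y.1 ∈ B
          rw [← h]
          exact Set.smul_mem_smul_set hy
        · intro hx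
          refine ⟨k⁻¹ • x, ?_, smul_inv_smul k x⟩
          change k.1⁻¹ • x.1 ∈ B
          rw [← Set.mem_smul_set_iff_inv_smul_mem, h]
          exact hx
      · right
        rw [Set.disjoint_left]
        rintro _ ⟨y, hy, rfl⟩ hy'
        exact Set.disjoint_left.1 h (Set.smul_mem_smul_set (hy : (y : Ω) ∈ B)) hy'
    rcases hJp.isTrivialBlock_of_isBlock hb with h | h
    · apply hnt.1
      intro u hu v hv
      exact congrArg Subtype.val (h (x := ⟨u, fun h' => h' (hsub hu)⟩) hu
        (y := ⟨v, fun h' => h' (hsub hv)⟩) hv)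
    · refine not_subset_block hqp hΓ1 hJ hB hBne fun u hu => ?_
      have h1 : (⟨u, fun h' => h' hu⟩ : ↥(SubMulAction.ofFixingSubgroup G Γᶜ)) ∈
          (Subtype.val ⁻¹' B : Set ↥(SubMulAction.ofFixingSubgroup G Γᶜ)) := by
        rw [h]; trivial
      exact h1
  · obtain ⟨b, hbB, hb⟩ := Set.not_subset.1 hsub
    exact not_subset_block hqp hΓ1 hJ hB hBne (subset_block hB hJ haB ha hbB hb)

end Cfsg.Agent.JordanSets
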